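import Groth.Prelude.Def_CartDual

/-!
# The bialgebra map attached to a bimultiplicative element
-/

set_option autoImplicit false
set_option linter.style.haveILetI false
set_option linter.unusedSectionVars false

universe u

open TensorProduct
open Algebra.TensorProduct (includeLeft includeRight)

noncomputable section

namespace Groth.Agent.H8.KerDualIso.Alg

variable {k : Type u} [Field k] {A B : Type u} [CommRing A] [CommRing B] [Bialgebra k A] [Bialgebra k B]
  [FiniteDimensional k A]

/-- Contraction with a functional in the first factor. -/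
def con {V W : Type u} [AddCommGroup V] [Module k V] [AddCommGroup W] [Module k W]
    (x : V →ₗ[k] k) : V ⊗[k] W →ₗ[k] W :=
  (TensorProduct.lid k W).toLinearMap ∘ₗ x.rTensor W

@[simp] theorem con_tmul {V W : Type u} [AddCommGroup V] [Module k V] [AddCommGroup W] [Module k W]
    (x : V →ₗ[k] k) (a : V) (b : W) : con x (a ⊗ₜ b) = x a • b := by
  simp [con]

/-- Contraction of the dual with an element. -/
def phi (c : A ⊗[k] B) : CartDual.D k A →ₗ[k] B where
  toFun x := con x.ofConv c
  map_add' x y := by simp [con, LinearMap.rTensor_add]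
  map_smul' r x := by simp [con, LinearMap.rTensor_smul]

@[simp] theorem phi_tmul (a : A) (b : B) (x : CartDual.D k A) : phi (a ⊗ₜ b) x = x.ofConv a • b :=
  con_tmul _ _ _

theorem phi_add (c c' : A ⊗[k] B) (x : CartDual.D k A) : phi (c + c') x = phi c x + phi c' x :=
  map_add (con x.ofConv) c c'

theorem phi_zero (x : CartDual.D k A) : phi (0 : A ⊗[k] B) x = 0 := map_zero (con x.ofConv)

abbrev lft {R S K : Type u} [CommRing R] [CommRing S] [CommRing K] [Algebra k R] [Algebra k S]
    [Algebra k K] (a : R →ₐ[k] K) (b : S →ₐ[k] K) : R ⊗[k] S →ₐ[k] K :=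
  Algebra.TensorProduct.lift a b fun _ _ => .all _ _

variable (A B) in
/-- First factor in `A ⊗ (A ⊗ B)`. -/
abbrev a₁ : A →ₐ[k] A ⊗[k] (A ⊗[k] B) := includeLeft

variable (A B) in
/-- Second factor in `A ⊗ (A ⊗ B)`. -/
abbrev a₂ : A →ₐ[k] A ⊗[k] (A ⊗[k] B) :=
  (includeRight : (A ⊗[k] B) →ₐ[k] A ⊗[k] (A ⊗[k] B)).comp includeLeft

variable (A B) in
/-- Third factor in `A ⊗ (A ⊗ B)`. -/
abbrev b₀ : B →ₐ[k] A ⊗[k] (A ⊗[k] B) :=
  (includeRight : (A ⊗[k] B) →ₐ[k] A ⊗[k] (A ⊗[k] B)).comp includeRight

variable (A B) in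
/-- Second factor in `A ⊗ (B ⊗ B)`. -/
abbrev b₁ : B →ₐ[k] A ⊗[k] (B ⊗[k] B) :=
  (includeRight : (B ⊗[k] B) →ₐ[k] A ⊗[k] (B ⊗[k] B)).comp includeLeft

variable (A B) in
/-- Third factor in `A ⊗ (B ⊗ B)`. -/
abbrev b₂ : B →ₐ[k] A ⊗[k] (B ⊗[k] B) :=
  (includeRight : (B ⊗[k] B) →ₐ[k] A ⊗[k] (B ⊗[k] B)).comp includeRight

theorem phi_mul (c : A ⊗[k] B)
    (hl : lft ((lft (a₁ A B) (a₂ A B)).comp (Bialgebra.comulAlgHom k A)) (b₀ A B) c =
      lft (a₁ A B) (b₀ A B) c * lft (a₂ A B) (b₀ A B) c)
    (x y : CartDual.D k A) : phi c (x * y) = phi c x * phi c y := by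
  let L : A ⊗[k] (A ⊗[k] B) →ₗ[k] B := con (W := B) y.ofConv ∘ₗ con (W := A ⊗[k] B) x.ofConv
  have h1 : ∀ d : A ⊗[k] B,
      L (lft ((lft (a₁ A B) (a₂ A B)).comp (Bialgebra.comulAlgHom k A)) (b₀ A B) d) = phi d (x * y) := by
    intro d
    induction d using TensorProduct.induction_on with
    | zero => simp [phi_zero]
    | add d d' hd hd' => simp only [map_add, phi_add, hd, hd']
    | tmul a b =>
      rw [phi_tmul, LinearMap.convMul_apply, Algebra.TensorProduct.lift_tmul, AlgHom.comp_apply,
        Bialgebra.comulAlgHom_apply]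
      induction (Coalgebra.comul a : A ⊗[k] A) using TensorProduct.induction_on with
      | zero => simp
      | add t t' ht ht' => simp only [map_add, add_mul, add_smul, ht, ht']
      | tmul s s' => simp [L, Algebra.TensorProduct.tmul_mul_tmul, smul_smul]
  have h2 : ∀ d d' : A ⊗[k] B,
      L (lft (a₁ A B) (b₀ A B) d * lft (a₂ A B) (b₀ A B) d') = phi d x * phi d' y := by
    intro d d'
    induction d using TensorProduct.induction_on with
    | zero => simp [phi_zero]
    | add d e hd he => simp only [map_add, phi_add, add_mul, hd, he]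
    | tmul a b =>
      induction d' using TensorProduct.induction_on with
      | zero => simp [phi_zero]
      | add d e hd he => simp only [map_add, phi_add, mul_add, hd, he]
      | tmul a' b' => simp [L, Algebra.TensorProduct.tmul_mul_tmul, smul_smul, mul_comm]
  rw [← h1, hl, h2]

theorem phi_one (c : A ⊗[k] B)
    (hl1 : lft ((Algebra.ofId k B).comp (Bialgebra.counitAlgHom k A)) (AlgHom.id k B) c = 1) :
    phi c 1 = 1 := by
  rw [← hl1]
  clear hl1
  induction c using TensorProduct.induction_on with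
  | zero => simp [phi_zero]
  | add d e hd he => simp only [map_add, phi_add, hd, he]
  | tmul a b =>
    rw [phi_tmul]
    simp [LinearMap.convOne_def, Algebra.smul_def, Algebra.ofId_apply]

theorem phi_counit (c : A ⊗[k] B)
    (hr1 : lft (AlgHom.id k A) ((Algebra.ofId k A).comp (Bialgebra.counitAlgHom k B)) c = 1)
    (x : CartDual.D k A) :
    Coalgebra.counit (R := k) (phi c x) = Coalgebra.counit (R := k) x := by
  rw [CartDual.coalgebra_counit_apply, CartDual.coe_apply, ← hr1]
  clear hr1
  induction c using TensorProduct.induction_on with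
  | zero => simp [phi_zero]
  | add d e hd he => simp only [map_add, phi_add, hd, he]
  | tmul a b =>
    rw [phi_tmul, Algebra.TensorProduct.lift_tmul, AlgHom.comp_apply, Bialgebra.counitAlgHom_apply,
      Algebra.ofId_apply, AlgHom.id_apply, ← Algebra.commutes, ← Algebra.smul_def, map_smul, map_smul,
      smul_eq_mul, smul_eq_mul, mul_comm]

theorem phi_comul (c : A ⊗[k] B)
    (hr : lft (includeLeft : A →ₐ[k] A ⊗[k] (B ⊗[k] B))
        ((lft (b₁ A B) (b₂ A B)).comp (Bialgebra.comulAlgHom k B)) c =
      lft (includeLeft : A →ₐ[k] A ⊗[k] (B ⊗[k] B)) (b₁ A B) c *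
        lft (includeLeft : A →ₐ[k] A ⊗[k] (B ⊗[k] B)) (b₂ A B) c)
    (x : CartDual.D k A) :
    TensorProduct.map (phi c) (phi c) (Coalgebra.comul (R := k) x) =
      Coalgebra.comul (R := k) (phi c x) := by
  let R : A ⊗[k] (B ⊗[k] B) →ₗ[k] B ⊗[k] B := con x.ofConv
  have h1 : ∀ d : A ⊗[k] B, R (lft (includeLeft : A →ₐ[k] A ⊗[k] (B ⊗[k] B))
      ((lft (b₁ A B) (b₂ A B)).comp (Bialgebra.comulAlgHom k B)) d) =
      Coalgebra.comul (R := k) (phi d x) := by
    intro d
    induction d using TensorProduct.induction_on with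
    | zero => simp [phi_zero]
    | add d d' hd hd' => simp only [map_add, phi_add, hd, hd']
    | tmul a b =>
      rw [phi_tmul, map_smul, Algebra.TensorProduct.lift_tmul, AlgHom.comp_apply,
        Bialgebra.comulAlgHom_apply]
      induction (Coalgebra.comul b : B ⊗[k] B) using TensorProduct.induction_on with
      | zero => simp
      | add t t' ht ht' => simp only [map_add, mul_add, smul_add, ht, ht']
      | tmul s s' => simp [R, Algebra.TensorProduct.tmul_mul_tmul]
  have h2 : ∀ d d' : A ⊗[k] B, R (lft (includeLeft : A →ₐ[k] A ⊗[k] (B ⊗[k] B)) (b₁ A B) d *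
      lft (includeLeft : A →ₐ[k] A ⊗[k] (B ⊗[k] B)) (b₂ A B) d') =
      TensorProduct.map (phi d) (phi d') (Coalgebra.comul (R := k) x) := by
    intro d d'
    induction d using TensorProduct.induction_on with
    | zero =>
      rw [show (phi (0 : A ⊗[k] B)) = 0 from LinearMap.ext phi_zero]
      simp
    | add d e hd he =>
      rw [show phi (d + e) = phi d + phi e from LinearMap.ext (phi_add d e), TensorProduct.map_add_left]
      simp only [map_add, add_mul, LinearMap.add_apply, hd, he]
    | tmul a b =>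
      induction d' using TensorProduct.induction_on with
      | zero =>
        rw [show (phi (0 : A ⊗[k] B)) = 0 from LinearMap.ext phi_zero]
        simp
      | add d e hd he =>
        rw [show phi (d + e) = phi d + phi e from LinearMap.ext (phi_add d e), TensorProduct.map_add_right]
        simp only [map_add, mul_add, LinearMap.add_apply, hd, he]
      | tmul a' b' =>
        have key : ∀ y : CartDual.D k A ⊗[k] CartDual.D k A,
            TensorProduct.map (phi (a ⊗ₜ[k] b)) (phi (a' ⊗ₜ[k] b')) y =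
              CartDual.ev₂ k A y (a ⊗ₜ a') • (b ⊗ₜ[k] b') := by
          intro y
          induction y using TensorProduct.induction_on with
          | zero => simp
          | add y y' hy hy' => simp only [map_add, LinearMap.add_apply, add_smul, hy, hy']
          | tmul z z' => simp [CartDual.coe_apply, TensorProduct.smul_tmul', TensorProduct.tmul_smul, smul_smul, mul_comm]
        rw [key, CartDual.ev₂_coalgebra_comul_tmul]
        simp [R, Algebra.TensorProduct.tmul_mul_tmul, CartDual.coe_apply]
  rw [← h1, hr, h2]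

/-- The bialgebra map of a bimultiplicative element. -/
def hom (c : A ⊗[k] B)
    (hl : lft ((lft (a₁ A B) (a₂ A B)).comp (Bialgebra.comulAlgHom k A)) (b₀ A B) c =
      lft (a₁ A B) (b₀ A B) c * lft (a₂ A B) (b₀ A B) c)
    (hl1 : lft ((Algebra.ofId k B).comp (Bialgebra.counitAlgHom k A)) (AlgHom.id k B) c = 1)
    (hr : lft (includeLeft : A →ₐ[k] A ⊗[k] (B ⊗[k] B))
        ((lft (b₁ A B) (b₂ A B)).comp (Bialgebra.comulAlgHom k B)) c =
      lft (includeLeft : A →ₐ[k] A ⊗[k] (B ⊗[k] B)) (b₁ A B) c *
        lft (includeLeft : A →ₐ[k] A ⊗[k] (B ⊗[k] B)) (b₂ A B) c)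
    (hr1 : lft (AlgHom.id k A) ((Algebra.ofId k A).comp (Bialgebra.counitAlgHom k B)) c = 1) :
    CartDual.D k A →ₐc[k] B :=
  BialgHom.ofAlgHom (AlgHom.ofLinearMap (phi c) (phi_one c hl1) (phi_mul c hl))
    (by
      apply AlgHom.ext
      intro x
      exact phi_counit c hr1 x)
    (by
      apply AlgHom.ext
      intro x
      exact phi_comul c hr x)

@[simp] theorem hom_apply (c : A ⊗[k] B) (hl hl1 hr hr1) (x : CartDual.D k A) :
    hom c hl hl1 hr hr1 x = phi c x := rfl

end Groth.Agent.H8.KerDualIso.Alg
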