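import Groth.Agent.H4.KerDual.Pairing
import Groth.Agent.Lib.FEt.GeomConn

/-!
# Products of classes algebraically equivalent to zero
-/

set_option autoImplicit false
set_option linter.style.haveILetI false
set_option linter.unusedSectionVars false
set_option backward.isDefEq.respectTransparency false
set_option backward.isDefEq.respectTransparency.types false

universe u

open CategoryTheory CategoryTheory.Limits MonoidalCategory CartesianMonoidalCategory AlgebraicGeometry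

noncomputable section

namespace Groth.Agent.H8.KerDualIso

open Groth.Agent.H3

local instance (Y : Scheme.{u}) : PicGrp.Law Y := Groth.Agent.Lib.TensorMod.Invertible.law Y

theorem isAlgEquivZero_mul {k : Type u} [Field k] [IsAlgClosed k] {X : Scheme.{u}}
    (pX : X ⟶ Spec (CommRingCat.of k)) {L L' N : X.Modules} (hL : PicF.IsInvertible L)
    (hL' : PicF.IsInvertible L') (hN : PicF.IsInvertible N)
    (e : PicGrp.cls N hN = PicGrp.cls L hL * PicGrp.cls L' hL')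
    (h : @Pic13.IsAlgEquivZero k _ X ⟨pX⟩ L) (h' : @Pic13.IsAlgEquivZero k _ X ⟨pX⟩ L') :
    @Pic13.IsAlgEquivZero k _ X ⟨pX⟩ N := by
  obtain ⟨T, q, hconn, hlft, hqc, M, hM, t, t₀, ht, ht₀, ⟨et⟩, ⟨et₀⟩⟩ := h
  obtain ⟨T', q', hconn', hlft', hqc', M', hM', t', t₀', ht', ht₀', ⟨et'⟩, ⟨et₀'⟩⟩ := h'
  let Xo : Over (Spec (CommRingCat.of k)) := Over.mk pX
  let A : Over (Spec (CommRingCat.of k)) := Over.mk q
  let B : Over (Spec (CommRingCat.of k)) := Over.mk q'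
  let a : PicLoc.PicSet (Xo ⊗ A).left := PicGrp.cls M hM
  let b : PicLoc.PicSet (Xo ⊗ B).left := PicGrp.cls M' hM'
  obtain ⟨K, hK, hKe⟩ := PicGrp.exists_eq_cls
    (PicCalc.ph (Xo ◁ fst A B) a * PicCalc.ph (Xo ◁ snd A B) b)
  let P : Over (Spec (CommRingCat.of k)) := 𝟙_ _
  let mkPt : ∀ {C : Over (Spec (CommRingCat.of k))} (s : Spec (CommRingCat.of k) ⟶ C.left)
      (_ : s ≫ C.hom = 𝟙 _), P ⟶ C := fun s hs => Over.homMk s hs
  let sl : ∀ {C : Over (Spec (CommRingCat.of k))} (s : P ⟶ C), Xo ⟶ Xo ⊗ C := fun s =>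
    lift (𝟙 Xo) (toUnit Xo ≫ s)
  have hconnAB : ConnectedSpace ↥(A ⊗ B).left :=
    Groth.Agent.Lib.FEt.GeomConn.connectedSpace_pullback_of_isAlgClosed k q q'
  haveI : LocallyOfFiniteType A.hom := hlft
  haveI : LocallyOfFiniteType B.hom := hlft'
  haveI : QuasiCompact q := hqc
  haveI : QuasiCompact q' := hqc'
  have hqcAB : QuasiCompact (A ⊗ B).hom := inferInstanceAs (QuasiCompact (pullback.fst q q' ≫ q))
  have hcl : ∀ (s : P ⟶ A) (s' : P ⟶ B),
      PicCalc.ph (sl (lift s s')) (PicGrp.cls K hK) = PicCalc.ph (sl s) a * PicCalc.ph (sl s') b := by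
    intro s s'
    rw [← hKe, map_mul, ← PicCalc.ph_comp, ← PicCalc.ph_comp]
    congr 2 <;> congr 1 <;> apply CartesianMonoidalCategory.hom_ext <;> simp [sl]
  have hsl : ∀ {C : Over (Spec (CommRingCat.of k))} (s : Spec (CommRingCat.of k) ⟶ C.left)
      (hs : s ≫ C.hom = 𝟙 _),
      @Pic13.sliceAt k _ X ⟨pX⟩ C.left C.hom s hs = (sl (mkPt s hs)).left := by
    intro C s hs
    refine pullback.hom_ext (f := pX) (g := C.hom) ?_ ?_
    · refine (pullback.lift_fst _ _ _).trans ?_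
      exact (congrArg Over.Hom.left (lift_fst (𝟙 Xo) (toUnit Xo ≫ mkPt s hs))).symm
    · refine (pullback.lift_snd _ _ _).trans ?_
      exact (congrArg Over.Hom.left (lift_snd (𝟙 Xo) (toUnit Xo ≫ mkPt s hs))).symm
  have hval : ∀ {C : Over (Spec (CommRingCat.of k))} (s : Spec (CommRingCat.of k) ⟶ C.left)
      (hs : s ≫ C.hom = 𝟙 _) (R : (Xo ⊗ C).left.Modules) (hR : PicF.IsInvertible R),
      (PicCalc.ph (sl (mkPt s hs)) (PicGrp.cls R hR)).1 =
        PicF.cl (@Pic13.fibreMod k _ X ⟨pX⟩ C.left C.hom s hs R) := by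
    intro C s hs R hR
    show _ = PicF.cl ((Scheme.Modules.pullback (@Pic13.sliceAt k _ X ⟨pX⟩ C.left C.hom s hs)).obj R)
    rw [hsl, PicCalc.ph_val]
    rfl
  have hpt : ∀ (s : Spec (CommRingCat.of k) ⟶ T) (hs : s ≫ q = 𝟙 _)
      (s' : Spec (CommRingCat.of k) ⟶ T') (hs' : s' ≫ q' = 𝟙 _),
      ∃ (z : Spec (CommRingCat.of k) ⟶ (A ⊗ B).left) (hz : z ≫ (A ⊗ B).hom = 𝟙 _),
        mkPt z hz = lift (mkPt (C := A) s hs) (mkPt (C := B) s' hs') :=
    fun s hs s' hs' => ⟨(lift (mkPt (C := A) s hs) (mkPt (C := B) s' hs')).left,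
      Over.w (lift (mkPt (C := A) s hs) (mkPt (C := B) s' hs')), Over.OverMorphism.ext rfl⟩
  obtain ⟨z, hz, hzz⟩ := hpt t ht t' ht'
  obtain ⟨z₀, hz₀, hzz₀⟩ := hpt t₀ ht₀ t₀' ht₀'
  refine ⟨(A ⊗ B).left, (A ⊗ B).hom, hconnAB, H4.KerDual.locallyOfFiniteType_tensor A B, hqcAB, K,
    hK, z, z₀, hz, hz₀, ?_, ?_⟩
  · refine (PicCalc.iso_iff (b := PicGrp.cls N hN) (hval (C := A ⊗ B) z hz K hK).symm rfl).2 ?_
    rw [hzz, hcl, e]
    congr 1
    · exact (PicCalc.iso_iff (hval (C := A) t ht M hM).symm rfl).1 ⟨et⟩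
    · exact (PicCalc.iso_iff (hval (C := B) t' ht' M' hM').symm rfl).1 ⟨et'⟩
  · refine (PicCalc.iso_iff (b := 1) (hval (C := A ⊗ B) z₀ hz₀ K hK).symm PicGrp.one_val.symm).2 ?_
    rw [hzz₀, hcl, (PicCalc.iso_iff (b := 1) (hval (C := A) t₀ ht₀ M hM).symm PicGrp.one_val.symm).1 ⟨et₀⟩,
      (PicCalc.iso_iff (b := 1) (hval (C := B) t₀' ht₀' M' hM').symm PicGrp.one_val.symm).1 ⟨et₀'⟩]
    exact _root_.mul_one _

/-- `Pic⁰` is closed under products. -/
theorem isPicZeroCl_mul {S : Scheme.{u}} {X T : Over S} {a b : PicLoc.PicSet (X ⊗ T).left}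
    (ha : AbDual.IsPicZeroCl X.hom T a.1) (hb : AbDual.IsPicZeroCl X.hom T b.1) :
    AbDual.IsPicZeroCl X.hom T (a * b).1 := by
  obtain ⟨L, hLa, hL, hL0⟩ := ha
  obtain ⟨L', hLb, hL', hL0'⟩ := hb
  obtain ⟨N, hN, hNe⟩ := PicGrp.exists_eq_cls (a * b)
  refine ⟨N, (congrArg Subtype.val hNe).symm, hN, fun t Ω _ _ σ hσ => ?_⟩
  let π := pullback.fst (PicF.XTproj X.hom T) σ
  let ψ := PicGrp.pullHom π (Groth.Agent.Lib.TensorMod.Pullback.pullMul π)
  refine isAlgEquivZero_mul (pullback.snd (PicF.XTproj X.hom T) σ)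
    (PicLoc.isInvertible_pullback π hL) (PicLoc.isInvertible_pullback π hL')
    (PicLoc.isInvertible_pullback π hN) ?_ (hL0 t Ω σ hσ) (hL0' t Ω σ hσ)
  have h1 : ∀ (R : (X ⊗ T).left.Modules) (hR : PicF.IsInvertible R),
      ψ (PicGrp.cls R hR) = PicGrp.cls ((Scheme.Modules.pullback π).obj R)
        (PicLoc.isInvertible_pullback π hR) := fun R hR => Subtype.ext rfl
  have hab : PicGrp.cls L hL * PicGrp.cls L' hL' = PicGrp.cls N hN := by
    rw [← hNe]
    congr 1 <;> exact Subtype.ext (by assumption)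
  rw [← h1 N hN, ← h1 L hL, ← h1 L' hL', ← hab, map_mul]

end Groth.Agent.H8.KerDualIso
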