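import Groth.Agent.H4.KerDual.Props
import Groth.Agent.H4.Chow.Hom
import Groth.Agent.H8.KerDualIso.PicZeroMul

/-!
# The pairing is multiplicative in the second variable
-/

set_option autoImplicit false
set_option linter.style.haveILetI false
set_option linter.unusedSectionVars false
set_option backward.isDefEq.respectTransparency false
set_option backward.isDefEq.respectTransparency.types false

universe u

open CategoryTheory CategoryTheory.Limits MonoidalCategory CartesianMonoidalCategory MonObj AlgebraicGeometry Opposite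
open Pseudofunctor

noncomputable section

namespace Groth.Agent.H8.KerDualIso

open Groth.Agent.H3 Groth.Agent.H4.PicZero Groth.Agent.Lib Groth.Agent.Lib.H3 Groth.Agent.Lib.H3.FrameRep
open Groth.Agent.H4.KerDual

local instance (Y : Scheme.{u}) : PicGrp.Law Y := Groth.Agent.Lib.TensorMod.Invertible.law Y

section Left

variable {k : Type u} [Field k] {X X' Y Y' N N' : Over (Spec (CommRingCat.of k))}
  [GrpObj X] [GrpObj N] [GrpObj X'] [GrpObj N']
  {f : X ⟶ Y} {f' : X' ⟶ Y'} {i : N ⟶ X} [IsMonHom i] {i' : N' ⟶ X'} [IsMonHom i']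
  (hif : ∀ {U : Over (Spec (CommRingCat.of k))} (v : U ⟶ N) (x : U ⟶ X),
    (x * (v ≫ i)) ≫ f = x ≫ f)
  (mX : X ⟶ X') [IsMonHom mX] (mY : Y ⟶ Y') (mN : N ⟶ N')
  (hfm : f ≫ mY = mX ≫ f') (him : i ≫ mX = mN ≫ i')

include hif hfm him in
/-- Characters are natural in the homomorphism. -/
theorem charOf_natural_left {T : Over (Spec (CommRingCat.of k))} {b : PicLoc.PicSet (Y' ⊗ T).left}
    {v : T ⟶ N} {c : Γ(T.left, ⊤)} (h : CharOf f' i' b (v ≫ mN) c) :
    CharOf f i (PicCalc.ph (mY ▷ T) b) v c := by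
  obtain ⟨M, hM, P, rfl, hc⟩ := h
  let M' := (Scheme.Modules.pullback (mY ▷ T).left).obj M
  let κ : pr M' ⟶ pr M := mkH (mY ▷ T).left (𝟙 M')
  have hκ : IsIso κ.fiber := inferInstanceAs (IsIso (𝟙 M'))
  have hsq : shift i v ≫ mX ▷ T = mX ▷ T ≫ shift i' (v ≫ mN) := by
    apply CartesianMonoidalCategory.hom_ext
    · simp only [Category.assoc, whiskerRight_fst, shift_fst_assoc, MonObj.mul_comp, shift_fst,
        MonObj.comp_mul, whiskerRight_snd_assoc]
      simp only [Category.assoc, him]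
    · simp
  have hff : f ▷ T ≫ mY ▷ T = mX ▷ T ≫ f' ▷ T := by
    rw [← comp_whiskerRight, hfm, comp_whiskerRight]
  have hbase : (FrameRep.ι (mX ▷ T).left ≫ P.1.1).base = (f ▷ T).left ≫ (mY ▷ T).left := by
    show (mX ▷ T).left ≫ P.1.1.base = _
    rw [P.2, ← Over.comp_left, ← Over.comp_left, hff]
  obtain ⟨Q, ⟨hQb, hQ⟩, -⟩ := Cartesian.exists_unique_lift κ hκ (a := ob (X ⊗ T).left) (f ▷ T).left
    (mapF (mX ▷ T).left P.1).1 hbase
  have hQi : IsIso Q.fiber := ThetaMaps.isIso_fiber_of_comp Q κ hκ (by rw [hQ]; exact (mapF _ P.1).2)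
  refine ⟨M', PicLoc.isInvertible_pullback _ hM, ⟨⟨Q, hQi⟩, hQb⟩, Subtype.ext rfl, ?_⟩
  show FrameRep.ι (shift i v).left ≫ Q = Scalars.act _ Q
  refine Cartesian.eq_of_comp_eq κ hκ ?_ ?_
  · show (shift i v).left ≫ Q.base = Q.base
    rw [hQb, ← Over.comp_left, shift_whiskerRight hif]
  · rw [Category.assoc, hQ, Scalars.act_comp, hQ]
    show FrameRep.ι _ ≫ FrameRep.ι (mX ▷ T).left ≫ P.1.1 = _
    rw [← Category.assoc, FrameRep.ι_comp, ← Over.comp_left, hsq, Over.comp_left, ← FrameRep.ι_comp,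
      Category.assoc]
    change FrameRep.ι _ ≫ (mapF (shift i' (v ≫ mN)).left P.1).1 = _
    rw [hc, mapF_act, ← CommRingCat.comp_apply, ← Scheme.Hom.comp_appTop, ← Over.comp_left,
      whiskerRight_snd]
    rfl

end Left

section Prod

variable {k : Type u} [Field k]

theorem mul_lift {T A B : Over (Spec (CommRingCat.of k))} [GrpObj A] [GrpObj B] (a c : T ⟶ A)
    (b d : T ⟶ B) : lift a b * lift c d = lift (a * c) (b * d) := by
  apply CartesianMonoidalCategory.hom_ext <;> simp [MonObj.mul_comp]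

theorem isMonHom_one (A B : Over (Spec (CommRingCat.of k))) [GrpObj A] [GrpObj B] :
    IsMonHom (1 : A ⟶ B) := by
  refine ⟨MonObj.comp_one _, ?_⟩
  rw [MonObj.comp_one, MonObj.mul_eq_mul, MonObj.comp_mul, tensorHom_fst, tensorHom_snd,
    MonObj.comp_one, MonObj.comp_one, _root_.mul_one]

variable {X Y N : Over (Spec (CommRingCat.of k))}
  [GrpObj X] [GrpObj Y] [GrpObj N] [IsProper X.hom] [GeometricallyIntegral X.hom]
  [IsProper Y.hom] [GeometricallyIntegral Y.hom]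
  {f : X ⟶ Y} [IsMonHom f] {i : N ⟶ X} [IsMonHom i] (hi : i ≫ f = 1)

include hi in
/-- Characters of rigidified classes are multiplicative in the class. -/
theorem charOf_mul_class {T : Over (Spec (CommRingCat.of k))} {b b' : PicLoc.PicSet (Y ⊗ T).left}
    (hr : PhiInj.rig b = 1) (hr' : PhiInj.rig b' = 1) (hb : Killed f b) (hb' : Killed f b')
    (v : T ⟶ N) {c c' : Γ(T.left, ⊤)} (hc : CharOf f i b v c) (hc' : CharOf f i b' v c') :
    CharOf f i (b * b') v (c * c') := by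
  haveI := H4.Chow.isProper_prod X X
  haveI := H4.Chow.geometricallyIntegral_prod X X
  haveI : IsMonHom (1 : N ⟶ N) := isMonHom_one N N
  haveI : IsMonHom (1 : X ⟶ X) := isMonHom_one X X
  have hii : (i ⊗ₘ i) ≫ (f ⊗ₘ f) = 1 := by
    apply CartesianMonoidalCategory.hom_ext <;>
      simp [tensorHom_comp_tensorHom, hi, MonObj.one_comp, MonObj.comp_one]
  let Bc : PicLoc.PicSet ((Y ⊗ Y) ⊗ T).left :=
    PicCalc.ph (fst Y Y ▷ T) b * PicCalc.ph (snd Y Y ▷ T) b'
  have hBc : Killed (f ⊗ₘ f) Bc := by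
    show PicCalc.ph _ _ = 1
    have e1 : (f ⊗ₘ f) ▷ T ≫ fst Y Y ▷ T = fst X X ▷ T ≫ f ▷ T := by
      rw [← comp_whiskerRight, ← comp_whiskerRight, tensorHom_fst]
    have e2 : (f ⊗ₘ f) ▷ T ≫ snd Y Y ▷ T = snd X X ▷ T ≫ f ▷ T := by
      rw [← comp_whiskerRight, ← comp_whiskerRight, tensorHom_snd]
    rw [map_mul, ← PicCalc.ph_comp, ← PicCalc.ph_comp, e1, e2, PicCalc.ph_comp, PicCalc.ph_comp,
      show PicCalc.ph (f ▷ T) b = 1 from hb, show PicCalc.ph (f ▷ T) b' = 1 from hb', map_one,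
      map_one, _root_.mul_one]
  have hif2 : ∀ {U : Over (Spec (CommRingCat.of k))} (w : U ⟶ N ⊗ N) (x : U ⟶ X ⊗ X),
      (x * (w ≫ (i ⊗ₘ i))) ≫ (f ⊗ₘ f) = x ≫ (f ⊗ₘ f) := fun w x => by
    rw [MonObj.mul_comp, Category.assoc, hii, MonObj.comp_one, _root_.mul_one]
  have hif1 : ∀ {U : Over (Spec (CommRingCat.of k))} (w : U ⟶ N) (x : U ⟶ X),
      (x * (w ≫ i)) ≫ f = x ≫ f := fun w x => by
    rw [MonObj.mul_comp, Category.assoc, hi, MonObj.comp_one, _root_.mul_one]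
  obtain ⟨c₁, -, h₁⟩ := exists_charOf hif2 hBc (lift v 1)
  obtain ⟨c₂, -, h₂⟩ := exists_charOf hif2 hBc (lift 1 v)
  have hone : ∀ a : PicLoc.PicSet (Y ⊗ T).left, PhiInj.rig a = 1 →
      PicCalc.ph ((1 : Y ⟶ Y) ▷ T) a = 1 := by
    intro a ha
    have e : ((1 : Y ⟶ Y) ▷ T) = snd Y T ≫ lift (1 : T ⟶ Y) (𝟙 T) := by
      apply CartesianMonoidalCategory.hom_ext <;> simp
    rw [e, PicCalc.ph_comp, show PicCalc.ph (lift (1 : T ⟶ Y) (𝟙 T)) a = 1 from ha, map_one]
  have k₁ : CharOf f i b v c₁ := by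
    have h := charOf_natural_left (f := f) (f' := f ⊗ₘ f) (i := i) (i' := i ⊗ₘ i) hif1
      (lift (𝟙 X) (1 : X ⟶ X)) (lift (𝟙 Y) (1 : Y ⟶ Y)) (lift (𝟙 N) (1 : N ⟶ N))
      (T := T) (b := Bc) (v := v) (c := c₁)
      (by apply CartesianMonoidalCategory.hom_ext <;> simp [MonObj.one_comp, MonObj.comp_one])
      (by apply CartesianMonoidalCategory.hom_ext <;> simp [MonObj.one_comp, MonObj.comp_one])
      (by rw [comp_lift, Category.comp_id, MonObj.comp_one]; exact h₁)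
    convert h using 1
    rw [map_mul, ← PicCalc.ph_comp, ← PicCalc.ph_comp, ← comp_whiskerRight, ← comp_whiskerRight,
      lift_fst, lift_snd, hone b' hr', MonoidalCategory.id_whiskerRight, _root_.mul_one, PicCalc.ph]
    exact (Subtype.ext (PicLoc.pullCl_id _)).symm
  have k₂ : CharOf f i b' v c₂ := by
    have h := charOf_natural_left (f := f) (f' := f ⊗ₘ f) (i := i) (i' := i ⊗ₘ i) hif1
      (lift (1 : X ⟶ X) (𝟙 X)) (lift (1 : Y ⟶ Y) (𝟙 Y)) (lift (1 : N ⟶ N) (𝟙 N))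
      (T := T) (b := Bc) (v := v) (c := c₂)
      (by apply CartesianMonoidalCategory.hom_ext <;> simp [MonObj.one_comp, MonObj.comp_one])
      (by apply CartesianMonoidalCategory.hom_ext <;> simp [MonObj.one_comp, MonObj.comp_one])
      (by rw [comp_lift, Category.comp_id, MonObj.comp_one]; exact h₂)
    convert h using 1
    rw [map_mul, ← PicCalc.ph_comp, ← PicCalc.ph_comp, ← comp_whiskerRight, ← comp_whiskerRight,
      lift_fst, lift_snd, hone b hr, MonoidalCategory.id_whiskerRight, _root_.one_mul, PicCalc.ph]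
    exact (Subtype.ext (PicLoc.pullCl_id _)).symm
  have h := charOf_natural_left (f := f) (f' := f ⊗ₘ f) (i := i) (i' := i ⊗ₘ i) hif1
    (lift (𝟙 X) (𝟙 X)) (lift (𝟙 Y) (𝟙 Y)) (lift (𝟙 N) (𝟙 N))
    (T := T) (b := Bc) (v := v) (c := c₁ * c₂)
    (by apply CartesianMonoidalCategory.hom_ext <;> simp)
    (by apply CartesianMonoidalCategory.hom_ext <;> simp)
    (by
      rw [comp_lift, Category.comp_id]
      have := h₁.mul h₂
      rwa [mul_lift, _root_.mul_one, _root_.one_mul] at this)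
  rw [k₁.unique hc, k₂.unique hc'] at h
  convert h using 1
  rw [map_mul, ← PicCalc.ph_comp, ← PicCalc.ph_comp, ← comp_whiskerRight, ← comp_whiskerRight,
    lift_fst, lift_snd, MonoidalCategory.id_whiskerRight]
  congr 1 <;> exact (Subtype.ext (PicLoc.pullCl_id _)).symm

end Prod

section Pairing

variable {k : Type u} [Field k] {X Y N M : Over (Spec (CommRingCat.of k))}
  [GrpObj X] [GrpObj Y] [GrpObj N] [GrpObj M] [IsProper X.hom] [GeometricallyIntegral X.hom]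
  [IsProper Y.hom] [GeometricallyIntegral Y.hom] [LocallyOfFiniteType N.hom]
  [LocallyOfFiniteType M.hom]
  {Xt Yt : Over (Spec (CommRingCat.of k))} [GrpObj Xt] [GrpObj Yt]
  {φX : ∀ T : Over (Spec (CommRingCat.of k)), PicF.Cl (PicF.XT X.hom T) → (T ⟶ Xt)}
  {φY : ∀ T : Over (Spec (CommRingCat.of k)), PicF.Cl (PicF.XT Y.hom T) → (T ⟶ Yt)}
  (hX : AbDual.IsDualAV Scheme.fppfPrecoverage X Xt φX)
  (hY : AbDual.IsDualAV Scheme.fppfPrecoverage Y Yt φY)
  {f : X ⟶ Y} [IsMonHom f] {i : N ⟶ X} [IsMonHom i] (hi : i ≫ f = 1)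
  {ft : Yt ⟶ Xt} (hft : AbDual.IsTranspose f φX φY ft)
  {y : M ⟶ Yt} [IsMonHom y] (hy : y ≫ ft = 1)
  {χ : Γ((N ⊗ M).left, ⊤)} (hχ : IsPairing φY f i y χ)

include hX hY hi hft hy hχ in
theorem mul_right {W : Over (Spec (CommRingCat.of k))} [LocallyOfFiniteType W.hom]
    (v : W ⟶ N) (g g' : W ⟶ M) :
    (lift v (g * g')).left.appTop.hom χ =
      (lift v g).left.appTop.hom χ * (lift v g').left.appTop.hom χ := by
  refine fun_ext_rep hY (g ≫ y) fun U w b hU hb => ?_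
  refine fun_ext_rep hY (w ≫ g' ≫ y) fun U' w' b' hU' hb' => ?_
  haveI : IsLocallyNoetherian U'.left := LocallyOfFiniteType.isLocallyNoetherian U'.hom
  let a := w' ≫ w
  have hb₁ : Rep φY ((a ≫ g) ≫ y) (PicCalc.ph (Y ◁ w') b) := by
    simpa only [a, Category.assoc] using hb.pull hY w'
  have hb₂ : Rep φY ((a ≫ g') ≫ y) b' := by simpa only [a, Category.assoc] using hb'
  have hb₁₂ : Rep φY ((a ≫ (g * g')) ≫ y) (PicCalc.ph (Y ◁ w') b * b') :=
    ⟨isPicZeroCl_mul hb₁.zero hb₂.zero, by rw [PhiInj.rig_mul, hb₁.rig, hb₂.rig, _root_.mul_one],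
      by rw [phi_mul hY hb₁.zero hb₂.zero, hb₁.phi, hb₂.phi, MonObj.comp_mul, MonObj.mul_comp]⟩
  have hk : ∀ (z : U' ⟶ M) (d : PicLoc.PicSet (Y ⊗ U').left), Rep φY (z ≫ y) d → Killed f d :=
    fun z d hd => hd.killed hX hft (by rw [Category.assoc, hy, MonObj.comp_one])
  have e : ∀ z : W ⟶ M, w'.left.appTop.hom (w.left.appTop.hom ((lift v z).left.appTop.hom χ)) =
      (lift (a ≫ v) (a ≫ z)).left.appTop.hom χ := fun z => by
    rw [← comp_lift, show (a ≫ lift v z).left = w'.left ≫ w.left ≫ (lift v z).left from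
      Category.assoc _ _ _, Scheme.Hom.comp_appTop, Scheme.Hom.comp_appTop]
    rfl
  rw [map_mul, map_mul, e, e, e]
  exact (hχ U' _ (a ≫ v) _ hU' hb₁₂).unique
    (charOf_mul_class hi hb₁.rig hb₂.rig (hk _ _ hb₁) (hk _ _ hb₂) (a ≫ v)
      (hχ U' _ (a ≫ v) _ hU' hb₁) (hχ U' _ (a ≫ v) _ hU' hb₂))

end Pairing

end Groth.Agent.H8.KerDualIso
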