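import Groth.Agent.H4.KerDual.Dual
import Groth.Agent.H8.KerDualIso.Algebra
import Groth.Prelude.Def_CoactBr

/-!
# Functions on the spectrum of a finite algebra
-/

set_option autoImplicit false
set_option linter.style.haveILetI false
set_option linter.unusedSectionVars false
set_option backward.isDefEq.respectTransparency false
set_option backward.isDefEq.respectTransparency.types false

universe u

open CategoryTheory CategoryTheory.Limits MonoidalCategory CartesianMonoidalCategory MonObj AlgebraicGeometry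
open scoped TensorProduct
open Algebra.TensorProduct (includeLeft includeRight)

noncomputable section

namespace Groth.Agent.H8.KerDualIso

open Groth.Agent.Lib Groth.Agent.Lib.H3 FunTensor
open Groth.Agent.H4.KerDual (Dual.IsMul Dual.IsOne)

attribute [local instance] RedSplit98.Basic.alg

variable {k : Type u} [Field k]

variable (k) in
/-- Functions on the spectrum of an algebra. -/
def σ (R : Type u) [CommRing R] [Algebra k R] : Fn (CoactBr.sp k R) ≃ₐ[k] R :=
  AlgEquiv.ofRingEquiv (f := (Scheme.ΓSpecIso (CommRingCat.of R)).commRingCatIsoToRingEquiv) fun c => by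
    have h := Scheme.ΓSpecIso_naturality (CommRingCat.ofHom (algebraMap k R))
    show (Scheme.ΓSpecIso (CommRingCat.of R)).hom.hom
      (((Scheme.ΓSpecIso (CommRingCat.of k)).inv ≫
        (Spec.map (CommRingCat.ofHom (algebraMap k R))).appTop).hom c) = _
    rw [← CommRingCat.comp_apply, Category.assoc, h, Iso.inv_hom_id_assoc]
    rfl

theorem σ_pull {A K : Type u} [CommRing A] [Algebra k A] [CommRing K] [Algebra k K] (φ : A →ₐ[k] K)
    (r : Fn (CoactBr.sp k A)) : σ k K (pull (CoactBr.pt φ) r) = φ (σ k A r) :=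
  congr($(Scheme.ΓSpecIso_naturality (CommRingCat.ofHom φ.toRingHom)) r)

theorem isFinite_sp (R : Type u) [CommRing R] [Algebra k R] [Module.Finite k R] :
    IsFinite (CoactBr.sp k R).hom :=
  (IsFinite.SpecMap_iff _).2 (by
    rw [CommRingCat.hom_ofHom, RingHom.finite_algebraMap]
    infer_instance)

section Pair

variable {A B : Type u} [CommRing A] [CommRing B] [Algebra k A] [Algebra k B]

variable (k A B) in
/-- The universal pair of points. -/
def univ : CoactBr.sp k (A ⊗[k] B) ⟶ CoactBr.sp k A ⊗ CoactBr.sp k B :=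
  lift (CoactBr.pt includeLeft) (CoactBr.pt includeRight)

/-- The element of `A ⊗ B` attached to a function on the product. -/
def elt (χ : Fn (CoactBr.sp k A ⊗ CoactBr.sp k B)) : A ⊗[k] B :=
  σ k (A ⊗[k] B) (pull (univ k A B) χ)

theorem σ_pull_lift {K : Type u} [CommRing K] [Algebra k K] (a : A →ₐ[k] K) (b : B →ₐ[k] K)
    (χ : Fn (CoactBr.sp k A ⊗ CoactBr.sp k B)) :
    σ k K (pull (lift (CoactBr.pt a) (CoactBr.pt b)) χ) = Alg.lft a b (elt χ) := by
  rw [elt, ← σ_pull, pull_pull, univ, comp_lift, ← CoactBr.pt_comp, ← CoactBr.pt_comp,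
    Algebra.TensorProduct.lift_comp_includeLeft, Algebra.TensorProduct.lift_comp_includeRight']

theorem phi_elt [FiniteDimensional k A] [IsFinite (CoactBr.sp k A).hom] [IsFinite (CoactBr.sp k B).hom]
    (x : CartDual.D k A) (χ : Fn (CoactBr.sp k A ⊗ CoactBr.sp k B)) :
    Alg.con x.ofConv (elt χ) =
      σ k B (H4.KerDual.Dual.T (x.ofConv ∘ₗ (σ k A).toLinearMap) χ) := by
  let F₁ : Fn (CoactBr.sp k A ⊗ CoactBr.sp k B) →ₗ[k] B :=
    Alg.con x.ofConv ∘ₗ (σ k (A ⊗[k] B)).toLinearMap ∘ₗ (pull (univ k A B)).toLinearMap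
  let F₂ : Fn (CoactBr.sp k A ⊗ CoactBr.sp k B) →ₗ[k] B :=
    (σ k B).toLinearMap ∘ₗ H4.KerDual.Dual.T (x.ofConv ∘ₗ (σ k A).toLinearMap)
  refine LinearMap.congr_fun (show F₁ = F₂ from FunTensor.ext fun r s => ?_) χ
  show Alg.con x.ofConv (σ k (A ⊗[k] B) (pull (univ k A B) _)) = σ k B _
  rw [H4.KerDual.Dual.T_apply, map_mul, map_mul, pull_pull, pull_pull, univ, lift_fst, lift_snd,
    σ_pull, σ_pull, map_smul]
  simp

end Pair

section Hopf

variable {A B : Type u} [CommRing A] [CommRing B] [HopfAlgebra k A] [HopfAlgebra k B]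
  [FiniteDimensional k A] [FiniteDimensional k B]

/-- A bimultiplicative function gives a map of bialgebras. -/
theorem exists_bialgHom (χ : Fn (CoactBr.sp k A ⊗ CoactBr.sp k B))
    (hl : Dual.IsMul χ) (hl1 : Dual.IsOne χ)
    (hr : ∀ (W : Over (Spec (CommRingCat.of k))) (v : W ⟶ CoactBr.sp k A) (g g' : W ⟶ CoactBr.sp k B),
      LocallyOfFiniteType W.hom → pull (lift v (g * g')) χ = pull (lift v g) χ * pull (lift v g') χ)
    (hr1 : ∀ (W : Over (Spec (CommRingCat.of k))) (v : W ⟶ CoactBr.sp k A),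
      LocallyOfFiniteType W.hom → pull (lift v (1 : W ⟶ CoactBr.sp k B)) χ = 1) :
    ∃ Φ : CartDual.D k A →ₐc[k] B, ∀ x, Φ x = Alg.con x.ofConv (elt χ) := by
  have hft : ∀ (K : Type u) [CommRing K] [Algebra k K] [Module.Finite k K],
      LocallyOfFiniteType (CoactBr.sp k K).hom := fun K _ _ _ => H4.KerDual.Dual.locallyOfFiniteType_spec
  refine ⟨Alg.hom (elt χ) ?_ ?_ ?_ ?_, fun x => rfl⟩
  · have h := congrArg (σ k _) (hl _ (CoactBr.pt (Alg.a₁ A B)) (CoactBr.pt (Alg.a₂ A B))
      (CoactBr.pt (Alg.b₀ A B)) (hft _))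
    rw [CoactBr.pt_mul_pt, map_mul, σ_pull_lift, σ_pull_lift, σ_pull_lift] at h
    exact h
  · have h := congrArg (σ k _) (hl1 _ (CoactBr.pt (AlgHom.id k B)) (hft _))
    rw [CoactBr.one_eq_pt, σ_pull_lift, map_one] at h
    exact h
  · have h := congrArg (σ k _) (hr _ (CoactBr.pt (includeLeft : A →ₐ[k] A ⊗[k] (B ⊗[k] B)))
      (CoactBr.pt (Alg.b₁ A B)) (CoactBr.pt (Alg.b₂ A B)) (hft _))
    rw [CoactBr.pt_mul_pt, map_mul, σ_pull_lift, σ_pull_lift, σ_pull_lift] at h
    exact h
  · have h := congrArg (σ k _) (hr1 _ (CoactBr.pt (AlgHom.id k A)) (hft _))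
    rw [CoactBr.one_eq_pt, σ_pull_lift, map_one] at h
    exact h

/-- A separating bimultiplicative function between spectra of equal rank gives an isomorphism. -/
theorem exists_bialgEquiv (χ : Fn (CoactBr.sp k A ⊗ CoactBr.sp k B))
    (hl : Dual.IsMul χ) (hl1 : Dual.IsOne χ) (hs : H4.KerDual.Dual.IsSep χ)
    (hr : ∀ (W : Over (Spec (CommRingCat.of k))) (v : W ⟶ CoactBr.sp k A) (g g' : W ⟶ CoactBr.sp k B),
      LocallyOfFiniteType W.hom → pull (lift v (g * g')) χ = pull (lift v g) χ * pull (lift v g') χ)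
    (hr1 : ∀ (W : Over (Spec (CommRingCat.of k))) (v : W ⟶ CoactBr.sp k A),
      LocallyOfFiniteType W.hom → pull (lift v (1 : W ⟶ CoactBr.sp k B)) χ = 1)
    (hd : Module.finrank k (Fn (CoactBr.sp k B)) = Module.finrank k (Fn (CoactBr.sp k A))) :
    Nonempty (B ≃ₐc[k] CartDual.D k A) := by
  haveI := isFinite_sp (k := k) A
  haveI := isFinite_sp (k := k) B
  obtain ⟨Φ, hΦ⟩ := exists_bialgHom χ hl hl1 hr hr1
  let P : CartDual.D k A →ₗ[k] B := Φ.toLinearMap
  have hP : ∀ x, P x = Alg.con x.ofConv (elt χ) := hΦ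
  have hsurj : Function.Surjective P := by
    rw [← LinearMap.range_eq_top, eq_top_iff]
    intro b _
    obtain ⟨f, rfl⟩ := (σ k B).surjective b
    have hmem : f ∈ Submodule.span k (Set.range (H4.KerDual.Dual.coef χ)) := by
      rw [H4.KerDual.Dual.span_coef hl hl1 hs]; trivial
    induction hmem using Submodule.span_induction with
    | zero => simp
    | add a b _ _ ha hb => rw [map_add]; exact add_mem (ha trivial) (hb trivial)
    | smul r a _ ha => rw [map_smul]; exact Submodule.smul_mem _ r (ha trivial)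
    | mem a ha =>
      obtain ⟨j, rfl⟩ := ha
      refine ⟨WithConv.toConv (((H4.KerDual.Dual.bas (N := CoactBr.sp k A)).coord j) ∘ₗ
        (σ k A).symm.toLinearMap), ?_⟩
      rw [hP, phi_elt]
      refine congrArg (σ k B) (congrArg (fun a => H4.KerDual.Dual.T (M := CoactBr.sp k B) a χ)
        (LinearMap.ext fun r => ?_))
      simp
  have hdim : Module.finrank k (CartDual.D k A) = Module.finrank k B := by
    rw [(CartDual.toDual k A).finrank_eq, Subspace.dual_finrank_eq,
      ← (σ k A).toLinearEquiv.finrank_eq, ← (σ k B).toLinearEquiv.finrank_eq, hd]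
  have hbij : Function.Bijective Φ :=
    ⟨(LinearMap.injective_iff_surjective_of_finrank_eq_finrank hdim).2 hsurj, hsurj⟩
  exact ⟨(BialgEquiv.ofBijective Φ hbij).symm⟩

end Hopf

end Groth.Agent.H8.KerDualIso
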